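import Groth.Prelude.Def_CAlgX
import Mathlib

/-!
# McCoy's criterion for injectivity of a matrix

`M.mulVecLin` is injective iff the ideal of maximal minors has zero annihilator.
-/

universe u

open Matrix

namespace GrothLib.McCoy19

variable {R : Type u} [CommRing R] {n m : ℕ} (M : Matrix (Fin n) (Fin m) R)

theorem submatrix_eq_mul {p : ℕ} (f : Fin p → Fin n) (g : Fin p → Fin m) :
    M.submatrix f g = M.submatrix f id * (1 : Matrix (Fin m) (Fin m) R).submatrix id g := by
  ext i j
  simp [Matrix.mul_apply, Matrix.one_apply]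

theorem minorIdeal_zero : CAlgX.minorIdeal M 0 = ⊤ := by
  rw [Ideal.eq_top_iff_one]
  exact Ideal.subset_span ⟨(Fin.elim0, Fin.elim0), by simp⟩

theorem minorIdeal_eq_bot_of_lt {r : ℕ} (h : m < r) : CAlgX.minorIdeal M r = ⊥ := by
  refine Ideal.span_eq_bot.2 ?_
  rintro _ ⟨⟨f, g⟩, rfl⟩
  obtain ⟨i, j, hne, hij⟩ := Fintype.exists_ne_map_eq_of_card_lt g (by simpa using h)
  exact Matrix.det_zero_of_column_eq hne (fun k => by simp [hij])

/-- Every element of the ideal of maximal minors is `y` with `L * M = y • 1` for some `L`. -/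
theorem exists_mul_eq_smul {y : R} (hy : y ∈ CAlgX.minorIdeal M m) :
    ∃ L : Matrix (Fin m) (Fin n) R, L * M = y • (1 : Matrix (Fin m) (Fin m) R) := by
  induction hy using Submodule.span_induction with
  | mem y hy =>
    obtain ⟨⟨f, g⟩, rfl⟩ := hy
    refine ⟨((1 : Matrix (Fin m) (Fin m) R).submatrix id g).det •
      ((M.submatrix f id).adjugate * (1 : Matrix (Fin n) (Fin n) R).submatrix f id), ?_⟩
    have h1 : (1 : Matrix (Fin n) (Fin n) R).submatrix f id * M = M.submatrix f id := by
      ext i j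
      simp [Matrix.mul_apply, Matrix.one_apply]
    dsimp only
    rw [Matrix.smul_mul, Matrix.mul_assoc, h1, Matrix.adjugate_mul, smul_smul, submatrix_eq_mul M f g,
      Matrix.det_mul, mul_comm]
  | zero => exact ⟨0, by simp⟩
  | add a b _ _ ha hb =>
    obtain ⟨La, hLa⟩ := ha
    obtain ⟨Lb, hLb⟩ := hb
    exact ⟨La + Lb, by rw [Matrix.add_mul, hLa, hLb, add_smul]⟩
  | smul c a _ ha =>
    obtain ⟨La, hLa⟩ := ha
    exact ⟨c • La, by rw [Matrix.smul_mul, hLa, smul_smul]; rfl⟩

theorem injective_of_annihilator_eq_bot (h : (CAlgX.minorIdeal M m).annihilator = ⊥) :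
    Function.Injective M.mulVecLin := by
  rw [← LinearMap.ker_eq_bot, LinearMap.ker_eq_bot']
  intro x hx
  funext j
  have hj : x j ∈ (CAlgX.minorIdeal M m).annihilator := by
    rw [Submodule.mem_annihilator]
    intro y hy
    obtain ⟨L, hL⟩ := exists_mul_eq_smul M hy
    have h1 : (L * M).mulVec x = 0 := by
      rw [← Matrix.mulVec_mulVec]
      show L.mulVec (M.mulVecLin x) = 0
      rw [hx, Matrix.mulVec_zero]
    rw [hL, Matrix.smul_mulVec, Matrix.one_mulVec] at h1
    have h2 := congrFun h1 j
    rw [Pi.smul_apply, Pi.zero_apply, smul_eq_mul] at h2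
    rw [smul_eq_mul, mul_comm, h2]
  rw [h] at hj
  simpa using hj

theorem exists_ker_of_mul_minors {a : R} (ha : a ≠ 0)
    (h : ∀ y ∈ CAlgX.minorIdeal M m, a * y = 0) : ∃ x, x ≠ 0 ∧ M.mulVec x = 0 := by
  classical
  let P : ℕ → Prop := fun r => ∀ y ∈ CAlgX.minorIdeal M r, a * y = 0
  have hex : ∃ r, P r := ⟨m, h⟩
  have hpos : Nat.find hex ≠ 0 := by
    intro h0
    have h1 : P 0 := h0 ▸ Nat.find_spec hex
    have h2 := h1 1 (by rw [minorIdeal_zero]; trivial)
    rw [mul_one] at h2
    exact ha h2
  obtain ⟨r, hr⟩ := Nat.exists_eq_succ_of_ne_zero hpos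
  have hrm : r < m := by
    have : Nat.find hex ≤ m := Nat.find_le h
    omega
  have hspec : P (r + 1) := by
    have := Nat.find_spec hex
    rwa [hr] at this
  obtain ⟨f, g, hfg⟩ : ∃ (f : Fin r → Fin n) (g : Fin r → Fin m), a * (M.submatrix f g).det ≠ 0 := by
    by_contra hne
    push Not at hne
    refine Nat.find_min hex (m := r) (by omega) fun y hy => ?_
    induction hy using Submodule.span_induction with
    | mem y hy => obtain ⟨⟨f, g⟩, rfl⟩ := hy; exact hne f g
    | zero => simp
    | add u v _ _ hu hv => rw [mul_add, hu, hv, add_zero]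
    | smul c u _ hu => rw [smul_eq_mul, mul_left_comm, hu, mul_zero]
  have hg : Function.Injective g := by
    intro i j hij
    by_contra hne
    exact hfg (by rw [Matrix.det_zero_of_column_eq hne (fun k => by simp [hij]), mul_zero])
  obtain ⟨c, hc⟩ : ∃ c, c ∉ Set.range g := by
    by_contra hne
    push Not at hne
    have := Fintype.card_le_of_surjective g hne
    simp at this
    omega
  let g' : Fin (r + 1) → Fin m := Fin.cons c g
  let co : Fin (r + 1) → R := fun j => (-1) ^ (j : ℕ) * a * (M.submatrix f (g' ∘ j.succAbove)).det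
  let x : Fin m → R := ∑ j, Pi.single (g' j) (co j)
  have hg0 : g' ∘ (0 : Fin (r + 1)).succAbove = g := by
    funext i
    simp [g']
  refine ⟨x, fun hx => hfg ?_, ?_⟩
  · have hxc : x c = a * (M.submatrix f g).det := by
      simp only [x, Finset.sum_apply, Pi.single_apply]
      rw [Finset.sum_eq_single (0 : Fin (r + 1))]
      · simp [g', co, hg0, Fin.cons_zero]
      · intro j _ hj
        obtain ⟨i, rfl⟩ := Fin.exists_succ_eq.2 hj
        rw [if_neg]
        simp only [g', Fin.cons_succ]
        exact fun h => hc ⟨i, h.symm⟩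
      · simp
    rw [← hxc, hx, Pi.zero_apply]
  · funext i
    have hdet : (M.submatrix (Fin.cons i f) g').det =
        ∑ j : Fin (r + 1), (-1) ^ (j : ℕ) * M i (g' j) * (M.submatrix f (g' ∘ j.succAbove)).det := by
      rw [Matrix.det_succ_row_zero]
      refine Finset.sum_congr rfl fun j _ => ?_
      rw [Matrix.submatrix_submatrix]
      rfl
    have h0 : a * (M.submatrix (Fin.cons i f) g').det = 0 :=
      hspec _ (Ideal.subset_span ⟨(Fin.cons i f, g'), rfl⟩)
    rw [hdet, Finset.mul_sum] at h0
    rw [Pi.zero_apply, ← h0]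
    simp only [Matrix.mulVec, dotProduct, x, Finset.sum_apply, Pi.single_apply, Finset.mul_sum]
    rw [Finset.sum_comm]
    refine Finset.sum_congr rfl fun j _ => ?_
    rw [Finset.sum_eq_single (g' j) (fun b _ hb => by rw [if_neg hb, mul_zero]) (by simp), if_pos rfl]
    simp only [co]
    ring

theorem injective_iff_annihilator_eq_bot :
    Function.Injective M.mulVecLin ↔ (CAlgX.minorIdeal M m).annihilator = ⊥ := by
  refine ⟨fun hinj => ?_, injective_of_annihilator_eq_bot M⟩
  rw [eq_bot_iff]
  intro a ha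
  by_contra hne
  obtain ⟨x, hx, hMx⟩ := exists_ker_of_mul_minors M (a := a) (fun h => hne (by simp [h]))
    (fun y hy => Submodule.mem_annihilator.1 ha y hy)
  exact hx (hinj (hMx.trans (Matrix.mulVec_zero M).symm))

theorem matrixRank_eq [Nontrivial R] (h : (CAlgX.minorIdeal M m).annihilator = ⊥) :
    CAlgX.matrixRank M = m := by
  have hne : CAlgX.minorIdeal M m ≠ ⊥ := by
    intro h0
    rw [h0, Submodule.annihilator_bot] at h
    exact top_ne_bot h
  refine IsGreatest.csSup_eq ⟨hne, fun r hr => ?_⟩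
  by_contra hlt
  exact hr (minorIdeal_eq_bot_of_lt M (by omega))

/-- Over a ring in which proper f.g. ideals have nonzero annihilator, injective matrices split. -/
theorem exists_leftInverse
    (hP : ∀ I : Ideal R, I.FG → I ≠ ⊤ → I.annihilator ≠ ⊥) (h : Function.Injective M.mulVecLin) :
    ∃ L : Matrix (Fin m) (Fin n) R, L * M = 1 := by
  have hann := (injective_iff_annihilator_eq_bot M).1 h
  have htop : CAlgX.minorIdeal M m = ⊤ := by
    by_contra hne
    exact hP _ (Submodule.fg_span (Set.finite_range _)) hne hann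
  obtain ⟨L, hL⟩ := exists_mul_eq_smul M (y := 1) (htop ▸ Submodule.mem_top)
  exact ⟨L, by rw [hL, one_smul]⟩

end GrothLib.McCoy19
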